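import Groth.Agent.CurveFEtLib.Split
import Groth.Agent.FEtLib.Colim
import Groth.Agent.PushoutFEt.Main
import Groth.Agent.FerrandPush.Of
import Groth.Agent.S0289
import Mathlib.AlgebraicGeometry.IdealSheaf.Subscheme
import Mathlib.Topology.KrullDimension

/-!
# Extending finite étale covers from a connected closed subscheme of a curve
-/

set_option autoImplicit false
set_option linter.unusedSectionVars false
set_option linter.style.haveILetI false
set_option backward.isDefEq.respectTransparency false
set_option maxHeartbeats 1000000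

universe u

open CategoryTheory CategoryTheory.Limits AlgebraicGeometry MorphismProperty
open Groth.Agent.FEtLib

noncomputable section

namespace Groth.Agent.CurveFEtLib

/-- In a space of dimension `≤ 1`, a point in a closed set `C` and in the closure of its complement is closed. -/
theorem isClosed_singleton_of_boundary {Z : Scheme.{u}} [IsLocallyNoetherian Z] (hdim : topologicalKrullDim Z ≤ 1)
    {C : Set Z} (hC : IsClosed C) {p : Z} (hp : p ∈ C) (hp' : p ∈ closure Cᶜ) : IsClosed ({p} : Set Z) := by
  rw [← closure_eq_iff_isClosed]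
  refine Set.Subset.antisymm (fun q hq => ?_) subset_closure
  by_contra hqp
  -- `p` is a generic point
  have hmax : ∀ r : Z, r ⤳ p → r = p := by
    intro r hr
    by_contra hrp
    let cl : Z → TopologicalSpace.IrreducibleCloseds Z := fun x =>
      ⟨closure {x}, isIrreducible_singleton.closure, isClosed_closure⟩
    have hlt : ∀ x y : Z, x ⤳ y → x ≠ y → cl y < cl x := fun x y h hne => by
      refine lt_of_le_of_ne (specializes_iff_closure_subset.1 h) fun e => hne ?_
      exact (Inseparable.eq ((inseparable_iff_closure_eq).2 (congrArg (fun c : TopologicalSpace.IrreducibleCloseds Z => (c : Set Z)) e))).symm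
    let S : LTSeries (TopologicalSpace.IrreducibleCloseds Z) :=
      { length := 2
        toFun := ![cl q, cl p, cl r]
        step := fun i => by
          fin_cases i
          · exact hlt p q (specializes_iff_mem_closure.2 hq) fun e => hqp e.symm
          · exact hlt r p hr hrp }
    have h2 := Order.LTSeries.length_le_krullDim S
    have : ((2 : ℕ) : WithBot ℕ∞) ≤ 1 := le_trans h2 hdim
    norm_cast at this
  obtain ⟨U, hU, hpU, -⟩ := exists_isAffineOpen_mem_and_subset (X := Z) (U := ⊤) (x := p) trivial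
  haveI : IsNoetherianRing Γ(Z, U) := IsLocallyNoetherian.component_noetherian ⟨U, hU⟩
  haveI : TopologicalSpace.NoetherianSpace ↥(Spec Γ(Z, U)) :=
    inferInstanceAs (TopologicalSpace.NoetherianSpace (PrimeSpectrum Γ(Z, U)))
  let f := hU.fromSpec
  have hfU : Set.range f = (U : Set Z) := hU.range_fromSpec
  obtain ⟨p₀, hp₀⟩ : p ∈ Set.range f := hfU.symm ▸ hpU
  let K : Set ↥(Spec Γ(Z, U)) := ⋃₀ {T ∈ irreducibleComponents ↥(Spec Γ(Z, U)) | p₀ ∉ T}
  have hKc : IsClosed K := by
    show IsClosed (⋃₀ _)
    rw [Set.sUnion_eq_biUnion]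
    exact ((TopologicalSpace.NoetherianSpace.finite_irreducibleComponents
      (α := ↥(Spec Γ(Z, U)))).subset fun T (hT : T ∈ irreducibleComponents _ ∧ p₀ ∉ T) => hT.1).isClosed_biUnion
      fun T hT => isClosed_of_mem_irreducibleComponents T hT.1
  have hp₀K : p₀ ∉ K := fun ⟨T, hT, hpT⟩ => hT.2 hpT
  have hO : IsOpen (f '' Kᶜ) := f.isOpenEmbedding.isOpenMap _ hKc.isOpen_compl
  obtain ⟨_, ⟨r₀, hr₀, rfl⟩, hrC⟩ := mem_closure_iff.1 hp' _ hO ⟨p₀, hp₀K, hp₀⟩
  obtain ⟨T, hT, hrT⟩ := exists_mem_irreducibleComponents_subset_of_isIrreducible {r₀} isIrreducible_singleton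
  have hrT' : r₀ ∈ T := hrT rfl
  have hpT : p₀ ∈ T := by
    by_contra h
    exact hr₀ ⟨T, ⟨hT, h⟩, hrT'⟩
  obtain ⟨g, hg⟩ := QuasiSober.sober hT.1 (isClosed_of_mem_irreducibleComponents T hT)
  have hgp : f g = p := hmax _ (hp₀ ▸ (hg.specializes hpT).map f.continuous)
  exact hrC ((hgp ▸ (hg.specializes hrT').map f.continuous).mem_closed hC hp)

/-- The number of points of a cover over `z` is its degree. -/
theorem card_points_eq_degree {X Z₀ : Scheme.{u}} [DiscreteTopology Z₀] (hsep : ∀ z : Z₀, IsSepClosed (Z₀.residueField z))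
    [ConnectedSpace X] (r : Z₀ ⟶ X) (U : FEt.Cat X) :
    ∃ n, ∀ z, Nat.card {w : ((FEt.restrict r).obj U).left // ((FEt.restrict r).obj U).hom w = z} = n := by
  obtain ⟨n, hn⟩ := exists_stratum U (Classical.arbitrary X)
  have htop : (stratum U n : Set X) = Set.univ :=
    (isClopen_iff.1 ⟨isClosed_stratum U n, (stratum U n).isOpen⟩).resolve_left fun h => by
      have : (Classical.arbitrary X) ∈ (stratum U n : Set X) := hn
      rw [h] at this
      exact this
  refine ⟨n, fun z => ?_⟩
  obtain ⟨K, _, _, ω, hω⟩ := QuotLib.exists_geom_point z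
  rw [card_fibre_eq hsep _ ω z hω, Nat.card_congr (bcEquiv r (Y := U) (ξ := ω))]
  exact mem_stratum_iff.1 (htop ▸ Set.mem_univ _ : base (ω ≫ r) ∈ (stratum U n : Set X))

theorem finite_points {Z₀ : Scheme.{u}} (W : FEt.Cat Z₀) (z : Z₀) : Finite {w : W.left // W.hom w = z} := by
  let f : W.left ⟶ Z₀ := W.hom
  haveI : IsFinite f := W.prop.1
  exact (f.finite_preimage_singleton z).to_subtype

/-- Restriction of finite étale covers to a connected closed subscheme of a curve is essentially surjective. -/
theorem essSurj_restrict {k : Type u} [Field k] [IsSepClosed k] {Z X : Scheme.{u}}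
    (a : Z ⟶ Spec (CommRingCat.of k)) [LocallyOfFiniteType a] (hdim : topologicalKrullDim Z ≤ 1)
    (i : X ⟶ Z) [IsClosedImmersion i] [ConnectedSpace X] : (FEt.restrict i).EssSurj := by
  haveI : IsLocallyNoetherian Z := LocallyOfFiniteType.isLocallyNoetherian a
  refine ⟨fun U => ?_⟩
  let I := Scheme.IdealSheafData.vanishingIdeal (⟨closure (Set.range i)ᶜ, isClosed_closure⟩ : TopologicalSpace.Closeds Z)
  let i' := I.subschemeι
  have hi' : Set.range i' = closure (Set.range i)ᶜ := by
    rw [I.range_subschemeι, Scheme.IdealSheafData.coe_support_vanishingIdeal]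
    rfl
  let Z₀ := pullback i i'
  let j := pullback.snd i i'
  let i₀ := pullback.fst i i'
  haveI : IsClosedImmersion i₀ := inferInstance
  haveI : IsClosedImmersion j := inferInstance
  let π := i₀ ≫ i
  haveI : IsClosedImmersion π := inferInstance
  have hclosed : ∀ z : Z₀, IsClosed ({z} : Set Z₀) := fun z => by
    have h1 : π z ∈ Set.range i := ⟨i₀ z, (Scheme.Hom.comp_apply _ _ _).symm⟩
    have h2 : π z ∈ closure (Set.range i)ᶜ := by
      rw [← hi']
      exact ⟨j z, by rw [← Scheme.Hom.comp_apply, ← pullback.condition]⟩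
    have h3 := isClosed_singleton_of_boundary hdim i.isClosedEmbedding.isClosed_range h1 h2
    have : ({z} : Set Z₀) = π ⁻¹' {π z} := Set.ext fun w => ⟨fun h => congrArg π h, fun h => π.isClosedEmbedding.injective h⟩
    rw [this]
    exact h3.preimage π.continuous
  haveI : IsLocallyNoetherian Z₀ := LocallyOfFiniteType.isLocallyNoetherian (π ≫ a)
  haveI : T1Space Z₀ := ⟨hclosed⟩
  haveI : DiscreteTopology Z₀ := by
    refine discreteTopology_iff_isOpen_singleton.2 fun z => ?_
    obtain ⟨U, hU, hzU, -⟩ := exists_isAffineOpen_mem_and_subset (X := Z₀) (U := ⊤) (x := z) trivial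
    haveI : IsNoetherianRing Γ(Z₀, U) := IsLocallyNoetherian.component_noetherian ⟨U, hU⟩
    haveI : TopologicalSpace.NoetherianSpace ↥(Spec Γ(Z₀, U)) :=
      inferInstanceAs (TopologicalSpace.NoetherianSpace (PrimeSpectrum Γ(Z₀, U)))
    haveI : T1Space ↥(Spec Γ(Z₀, U)) := hU.fromSpec.isOpenEmbedding.toIsEmbedding.t1Space
    haveI : Finite ↥(Spec Γ(Z₀, U)) := by
      refine Set.finite_univ_iff.1 ((TopologicalSpace.NoetherianSpace.finite_irreducibleComponents
        (α := ↥(Spec Γ(Z₀, U)))).preimage (f := fun x => ({x} : Set _)) Set.singleton_injective.injOn |>.subset ?_)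
      intro x _
      obtain ⟨T, hT, hxT⟩ := exists_mem_irreducibleComponents_subset_of_isIrreducible {x} isIrreducible_singleton
      obtain ⟨g, hg⟩ := QuasiSober.sober hT.1 (isClosed_of_mem_irreducibleComponents T hT)
      rw [IsGenericPoint, closure_singleton] at hg
      show ({x} : Set _) ∈ irreducibleComponents _
      have hxg : x = g := by
        have h := hxT (Set.mem_singleton x)
        rw [← hg] at h
        exact h
      rwa [hxg, hg]
    haveI : DiscreteTopology ↥(Spec Γ(Z₀, U)) := inferInstance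
    obtain ⟨z₀, hz₀⟩ : z ∈ Set.range hU.fromSpec := hU.range_fromSpec.symm ▸ hzU
    rw [← hz₀, ← Set.image_singleton]
    exact hU.fromSpec.isOpenEmbedding.isOpenMap _ (isOpen_discrete _)
  have hsep : ∀ z : Z₀, IsSepClosed (Z₀.residueField z) := fun z =>
    EtClosedPts.isSepClosed_residueField (π ≫ a) z (hclosed z)
  obtain ⟨n, hn⟩ := card_points_eq_degree hsep i₀ U
  let V := splitCover I.subscheme n
  have hnV : ∀ z, Nat.card {w : ((FEt.restrict j).obj V).left // ((FEt.restrict j).obj V).hom w = z} = n := fun z => by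
    obtain ⟨K, _, _, ω, hω⟩ := QuotLib.exists_geom_point z
    rw [card_fibre_eq hsep _ ω z hω, Nat.card_congr (bcEquiv j (Y := V) (ξ := ω))]
    have hb : Function.Bijective fun m : Fin n => (fibMk ((ω ≫ j) ≫ Limits.Sigma.ι (fun _ : Fin n => I.subscheme) m)
        ((Category.assoc _ _ _).trans ((congrArg _ (Limits.Sigma.ι_desc _ m)).trans (Category.comp_id _))) :
          Fib (ω ≫ j) V) := by
      refine ⟨fun m m' h => ?_, fun b => ?_⟩
      · by_contra hne
        have h' := congrArg (fun c : Fib (ω ≫ j) V => center c) h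
        exact Set.disjoint_left.1 (disjoint_opensRange_sigmaι (fun _ : Fin n => I.subscheme) m m' hne |> fun h => TopologicalSpace.Opens.coe_disjoint.2 h)
          ⟨_, rfl⟩ (show _ ∈ Set.range (Limits.Sigma.ι (fun _ : Fin n => I.subscheme) m') from ⟨(ω ≫ j) (IsLocalRing.closedPoint K), h'.symm⟩)
      · obtain ⟨m, y, hy⟩ := (sigmaOpenCover fun _ : Fin n => I.subscheme).exists_eq (center b)
        have hr : Set.range b.left ⊆ Set.range (Limits.Sigma.ι (fun _ : Fin n => I.subscheme) m) := by
          rintro _ ⟨p, rfl⟩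
          rw [@Subsingleton.elim (PrimeSpectrum K) _ p (IsLocalRing.closedPoint K)]
          exact ⟨y, hy⟩
        refine ⟨m, fib_ext ?_⟩
        have hl := IsOpenImmersion.lift_fac (Limits.Sigma.ι (fun _ : Fin n => I.subscheme) m) b.left hr
        have e : IsOpenImmersion.lift (Limits.Sigma.ι (fun _ : Fin n => I.subscheme) m) b.left hr = ω ≫ j :=
          (Category.comp_id _).symm.trans
            ((congrArg (IsOpenImmersion.lift (Limits.Sigma.ι (fun _ : Fin n => I.subscheme) m) b.left hr ≫ ·)
              (Limits.Sigma.ι_desc (fun _ : Fin n => 𝟙 I.subscheme) m).symm).trans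
              ((Category.assoc _ _ _).symm.trans ((congrArg (· ≫ Limits.Sigma.desc fun _ : Fin n => 𝟙 I.subscheme) hl).trans
                (fib_w b))))
        exact (congrArg (· ≫ Limits.Sigma.ι (fun _ : Fin n => I.subscheme) m) e.symm).trans hl
    exact (Nat.card_eq_of_bijective _ hb).symm.trans (Nat.card_fin n)
  obtain ⟨eU⟩ := nonempty_iso_split hsep ((FEt.restrict i₀).obj U) n hn (finite_points _)
  obtain ⟨eV⟩ := nonempty_iso_split hsep ((FEt.restrict j).obj V) n hnV (finite_points _)
  have haff : ∀ y : I.subscheme, ∃ O : X.Opens, IsAffineOpen O ∧ ∀ z : Z₀, j z = y → i₀ z ∈ O := by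
    intro y
    by_cases hy : y ∈ Set.range j
    · obtain ⟨z, rfl⟩ := hy
      obtain ⟨O, hO, hzO, -⟩ := exists_isAffineOpen_mem_and_subset (X := X) (U := ⊤) (x := i₀ z) trivial
      exact ⟨O, hO, fun z' h => j.isClosedEmbedding.injective h ▸ hzO⟩
    · exact ⟨⊥, isAffineOpen_bot X, fun z h => (hy ⟨z, h⟩).elim⟩
  have haff' : ∀ y : I.subscheme, ∃ O : X.Opens, IsAffineOpen O ∧ j ⁻¹' {y} ⊆ i₀ ⁻¹' (O : Set X) := fun y => by
    obtain ⟨O, hO, h⟩ := haff y
    exact ⟨O, hO, fun z hz => h z hz⟩
  obtain ⟨hX, hY⟩ := FerrandPush.exists_chart_of_integral i₀ j haff'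
  obtain ⟨α, β, hpo, -, -⟩ := FerrandPush.exists_pushout_charts i₀ j hX hY
  obtain ⟨hα, hβ, -, hsurj⟩ := FerrandPush.props_of_isPushout haff' hpo
  obtain ⟨T, ⟨eT⟩, -⟩ := PushoutFEt.descends i₀ j haff α β hpo U V (eU.symm ≪≫ eV)
  let c := hpo.desc i i' pullback.condition
  have hcα : α ≫ c = i := hpo.inl_desc _ _ _
  have hcβ : β ≫ c = i' := hpo.inr_desc _ _ _
  have hcinj : Function.Injective c := by
    intro w w' h
    have key : ∀ (x : X) (y : I.subscheme), i x = i' y → α x = β y := fun x y e => by
      obtain ⟨z, rfl, rfl⟩ := Scheme.Pullback.exists_preimage_pullback x y e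
      rw [← Scheme.Hom.comp_apply, ← Scheme.Hom.comp_apply, hpo.w]
    rcases hsurj w with ⟨x, rfl⟩ | ⟨y, rfl⟩ <;> rcases hsurj w' with ⟨x', rfl⟩ | ⟨y', rfl⟩ <;>
      simp only [← Scheme.Hom.comp_apply, hcα, hcβ] at h
    · rw [i.isClosedEmbedding.injective h]
    · exact key x y' h
    · exact (key x' y h.symm).symm
    · rw [i'.isClosedEmbedding.injective h]
  haveI : Surjective c := ⟨fun z => by
    by_cases hz : z ∈ Set.range i
    · obtain ⟨x, rfl⟩ := hz
      exact ⟨α x, by rw [← Scheme.Hom.comp_apply, hcα]⟩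
    · obtain ⟨y, rfl⟩ : z ∈ Set.range i' := hi'.symm ▸ subset_closure hz
      exact ⟨β y, by rw [← Scheme.Hom.comp_apply, hcβ]⟩⟩
  haveI : UniversallyClosed c := by
    haveI : Surjective (coprod.desc α β) := ⟨fun p => by
      rcases hsurj p with ⟨x, rfl⟩ | ⟨y, rfl⟩
      · exact ⟨(coprod.inl : X ⟶ _) x, by rw [← Scheme.Hom.comp_apply, coprod.inl_desc]⟩
      · exact ⟨(coprod.inr : I.subscheme ⟶ _) y, by rw [← Scheme.Hom.comp_apply, coprod.inr_desc]⟩⟩
    haveI : UniversallyClosed (coprod.desc α β ≫ c) := by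
      rw [coprod.desc_comp, hcα, hcβ]
      haveI : IsIntegralHom (coprod.desc i i') := inferInstance
      infer_instance
    exact UniversallyClosed.of_comp_surjective (coprod.desc α β) c
  haveI : IsAffineHom c := isAffineHom_of_isInducing c
    (Topology.IsClosedEmbedding.of_continuous_injective_isClosedMap c.continuous hcinj c.isClosedMap).isInducing
    (c.isClosedMap.isClosed_range)
  haveI : IsIntegralHom c := IsIntegralHom.iff_universallyClosed_and_isAffineHom.2 ⟨inferInstance, inferInstance⟩
  haveI : UniversallyInjective c := by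
    have htfae := (tfae_universallyInjective c).out 2 0
    refine htfae.mp ⟨hcinj, fun w => ?_⟩
    have key : ∀ {X' : Scheme.{u}} (m : X' ⟶ _) (x : X') (n : X' ⟶ Z), IsClosedImmersion n → m ≫ c = n →
        (c.residueFieldMap (m x)).hom.IsPurelyInseparable := by
      intro X' m x n hn e
      subst e
      have h1 : Function.Surjective ((m ≫ c).residueFieldMap x).hom := by
        haveI := hn
        intro v
        obtain ⟨v, rfl⟩ := X'.residue_surjective x v
        obtain ⟨v, rfl⟩ := (m ≫ c).stalkMap_surjective x v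
        exact ⟨Z.residue _ v, ConcreteCategory.congr_hom (Scheme.residue_residueFieldMap (m ≫ c) x) v⟩
      rw [Scheme.residueFieldMap_comp] at h1
      have h2 : Function.Surjective (c.residueFieldMap (m x)).hom :=
        Function.Surjective.of_comp_left h1 (m.residueFieldMap x).hom.injective
      letI := (c.residueFieldMap (m x)).hom.toAlgebra
      exact (isPurelyInseparable_iff_pow_mem _ (ringExpChar (Z.residueField (c (m x))))).2 fun v =>
        ⟨0, by rw [pow_zero, pow_one]; exact h2 v⟩
    rcases hsurj w with ⟨x, rfl⟩ | ⟨y, rfl⟩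
    · exact key α x i inferInstance hcα
    · exact key β y i' inferInstance hcβ
  haveI : (FEt.restrict c).IsEquivalence := Groth.Agent.S0289.result c
  let T' := (FEt.restrict c).objPreimage T
  let eT' := (FEt.restrict c).objObjPreimageIso T
  refine ⟨T', ⟨?_⟩⟩
  have hr : FEt.restrict i = FEt.restrict (α ≫ c) := congrArg FEt.restrict hcα.symm
  exact (eqToIso hr).app T' ≪≫ ((MorphismProperty.Over.pullbackComp α c).app T') ≪≫
    (FEt.restrict α).mapIso eT' ≪≫ eT

end Groth.Agent.CurveFEtLib
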