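import Groth.Agent.FEtLib.Split
import Groth.Agent.EtClosedPts.Sky
import Groth.Agent.S3694

/-!
# Finite étale covers of a discrete scheme with separably closed residue fields are split
-/

set_option autoImplicit false
set_option linter.unusedSectionVars false
set_option linter.style.haveILetI false
set_option backward.isDefEq.respectTransparency false
set_option maxHeartbeats 1000000

universe u

open CategoryTheory CategoryTheory.Limits AlgebraicGeometry MorphismProperty
open Groth.Agent.FEtLib

noncomputable section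

namespace Groth.Agent.CurveFEtLib

variable {Z₀ : Scheme.{u}} [DiscreteTopology Z₀]

/-- The split cover of degree `n`. -/
def splitCover (Y : Scheme.{u}) (n : ℕ) : FEt.Cat Y :=
  MorphismProperty.Over.mk ⊤ (Limits.Sigma.desc fun _ : Fin n => 𝟙 Y) (isFinite_and_etale_fold Y n)

theorem discreteTopology_left (W : FEt.Cat Z₀) : DiscreteTopology W.left := by
  haveI : IsFinite W.hom := W.prop.1
  rw [← isDiscrete_univ_iff]
  let f : W.left ⟶ Z₀ := W.hom
  haveI : IsFinite f := W.prop.1
  have h := f.isDiscrete_preimage (s := Set.univ) (isDiscrete_univ_iff.2 inferInstance)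
  rwa [Set.preimage_univ] at h

variable (hsep : ∀ z : Z₀, IsSepClosed (Z₀.residueField z))

/-- The open point. -/
def pointOpen {W : Scheme.{u}} [DiscreteTopology W] (w : W) : W.Opens := ⟨{w}, isOpen_discrete _⟩

include hsep in
/-- Each point of a cover maps isomorphically to an open point of the base. -/
theorem isOpenImmersion_point (W : FEt.Cat Z₀) [DiscreteTopology W.left] (w : W.left) :
    IsOpenImmersion ((pointOpen w).ι ≫ W.hom) := by
  haveI : Etale W.hom := W.prop.2
  let f := (pointOpen w).ι ≫ W.hom
  haveI : Etale f := inferInstanceAs (Etale ((pointOpen w).ι ≫ W.hom))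
  haveI : UniversallyInjective f := by
    have htfae := (tfae_universallyInjective f).out 2 0
    refine htfae.mp ⟨fun a b _ => Subtype.ext (a.2.trans b.2.symm), fun x => ?_⟩
    letI : Algebra (Z₀.residueField (f.base x)) ((pointOpen w).toScheme.residueField x) := (f.residueFieldMap x).hom.toAlgebra
    haveI := hsep (f.base x)
    haveI : Algebra.IsSeparable (Z₀.residueField (f.base x)) ((pointOpen w).toScheme.residueField x) := inferInstance
    exact (inferInstance : IsPurelyInseparable (Z₀.residueField (f.base x)) ((pointOpen w).toScheme.residueField x))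
  exact Groth.Agent.S3694.result f

include hsep in
/-- Points over `z` are the geometric points over a geometric point at `z`. -/
theorem card_fibre_eq (W : FEt.Cat Z₀) {K : Type u} [Field K] (ξ : Spec (CommRingCat.of K) ⟶ Z₀) (z : Z₀)
    (hz : base ξ = z) : Nat.card {w : W.left // W.hom w = z} = Nat.card (Fib ξ W) := by
  haveI := discreteTopology_left W
  subst hz
  symm
  refine Nat.card_eq_of_bijective (fun a : Fib ξ W => (⟨center a, hom_center a⟩ : {w : W.left // W.hom w = base ξ}))
    ⟨fun a b h => fib_ext ?_, fun w => ?_⟩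
  · have hc : center a = center b := congrArg Subtype.val h
    haveI := isOpenImmersion_point hsep W (center a)
    have hr : ∀ c : Fib ξ W, center c = center a → Set.range c.left ⊆ Set.range (pointOpen (center a)).ι := by
      intro c hc
      rw [Scheme.Opens.range_ι]
      rintro _ ⟨p, rfl⟩
      rw [@Subsingleton.elim (PrimeSpectrum K) _ p (IsLocalRing.closedPoint K)]
      exact hc
    have ha := IsOpenImmersion.lift_fac (pointOpen (center a)).ι a.left (hr a rfl)
    have hb := IsOpenImmersion.lift_fac (pointOpen (center a)).ι b.left (hr b hc.symm)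
    have e : IsOpenImmersion.lift (pointOpen (center a)).ι a.left (hr a rfl) =
        IsOpenImmersion.lift (pointOpen (center a)).ι b.left (hr b hc.symm) := by
      rw [← cancel_mono ((pointOpen (center a)).ι ≫ W.hom), ← Category.assoc, ← Category.assoc, ha, hb]
      exact (fib_w a).trans (fib_w b).symm
    rw [← ha, ← hb, e]
  · obtain ⟨w, hw⟩ := w
    haveI := isOpenImmersion_point hsep W w
    have hr : Set.range ξ ⊆ Set.range ((pointOpen w).ι ≫ W.hom) := by
      rintro _ ⟨p, rfl⟩
      rw [@Subsingleton.elim (PrimeSpectrum K) _ p (IsLocalRing.closedPoint K)]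
      exact ⟨⟨w, rfl⟩, hw⟩
    let s := IsOpenImmersion.lift ((pointOpen w).ι ≫ W.hom) ξ hr
    refine ⟨fibMk (s ≫ (pointOpen w).ι) ((Category.assoc _ _ _).trans (IsOpenImmersion.lift_fac _ _ _)), Subtype.ext ?_⟩
    exact (s (IsLocalRing.closedPoint K)).2

include hsep in
/-- A cover all whose fibres have `n` points is split. -/
theorem nonempty_iso_split (W : FEt.Cat Z₀) (n : ℕ) (hn : ∀ z, Nat.card {w : W.left // W.hom w = z} = n)
    (hfin : ∀ z, Finite {w : W.left // W.hom w = z}) : Nonempty (splitCover Z₀ n ≅ W) := by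
  haveI := discreteTopology_left W
  let e : ∀ z, {w : W.left // W.hom w = z} ≃ Fin n := fun z =>
    haveI := hfin z
    (Finite.equivFin _).trans (finCongr (hn z))
  let V : Fin n → W.left.Opens := fun i => ⟨{w | e (W.hom w) ⟨w, rfl⟩ = i}, isOpen_discrete _⟩
  have hidx : ∀ (z : Z₀) (w : W.left) (h : W.hom w = z), e (W.hom w) ⟨w, rfl⟩ = e z ⟨w, h⟩ := by
    intro z w h; subst h; rfl
  have hiso : ∀ i, IsIso ((V i).ι ≫ W.hom) := fun i => by
    haveI : Etale W.hom := W.prop.2
    haveI : Etale ((V i).ι ≫ W.hom) := inferInstance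
    haveI : UniversallyInjective ((V i).ι ≫ W.hom) := by
      have htfae := (tfae_universallyInjective ((V i).ι ≫ W.hom)).out 2 0
      refine htfae.mp ⟨fun a b h => Subtype.ext ?_, fun x => ?_⟩
      · have h' : W.hom a.1 = W.hom b.1 := h
        have : e (W.hom b.1) ⟨a.1, h'⟩ = e (W.hom b.1) ⟨b.1, rfl⟩ := (hidx _ _ h').symm.trans (a.2.trans b.2.symm)
        exact congrArg (fun q : {w : W.left // W.hom w = W.hom b.1} => q.1) ((e _).injective this)
      · letI : Algebra (Z₀.residueField (((V i).ι ≫ W.hom).base x)) ((V i).toScheme.residueField x) :=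
          (((V i).ι ≫ W.hom).residueFieldMap x).hom.toAlgebra
        haveI := hsep (((V i).ι ≫ W.hom).base x)
        haveI : Algebra.IsSeparable (Z₀.residueField (((V i).ι ≫ W.hom).base x)) ((V i).toScheme.residueField x) :=
          inferInstance
        exact (inferInstance : IsPurelyInseparable (Z₀.residueField (((V i).ι ≫ W.hom).base x))
          ((V i).toScheme.residueField x))
    haveI := Groth.Agent.S3694.result ((V i).ι ≫ W.hom)
    haveI : Surjective ((V i).ι ≫ W.hom) := ⟨fun z => ⟨⟨((e z).symm i).1, by
      show e _ _ = i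
      rw [hidx z _ ((e z).symm i).2]
      exact (e z).apply_symm_apply i⟩, ((e z).symm i).2⟩⟩
    exact (isIso_iff_isOpenImmersion_and_surjective _).2 ⟨inferInstance, inferInstance⟩
  let s : Fin n → (Z₀ ⟶ W.left) := fun i =>
    haveI := hiso i
    inv ((V i).ι ≫ W.hom) ≫ (V i).ι
  have hs : ∀ i, s i ≫ W.hom = 𝟙 Z₀ := fun i => by
    haveI := hiso i
    simp [s]
  let c : (∐ fun _ : Fin n => Z₀) ⟶ W.left := Limits.Sigma.desc s
  haveI : IsIso c := by
    haveI : ∀ i, IsOpenImmersion (s i) := fun i => by
      haveI := hiso i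
      infer_instance
    have hV : ∀ i, Set.range (s i) = (V i : Set W.left) := fun i => by
      haveI := hiso i
      show Set.range (inv ((V i).ι ≫ W.hom) ≫ (V i).ι).base = _
      rw [Scheme.Hom.comp_base, TopCat.coe_comp, Set.range_comp,
        (inv ((V i).ι ≫ W.hom)).surjective.range_eq, Set.image_univ, Scheme.Opens.range_ι]
    haveI : IsOpenImmersion c := by
      refine isOpenImmersion_sigmaDesc _ s fun i j hij => ?_
      show Disjoint (Set.range (s i)) (Set.range (s j))
      rw [hV, hV]
      exact Set.disjoint_left.2 fun w hi hj => hij (hi.symm.trans hj)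
    haveI : Surjective c := ⟨fun w => by
      obtain ⟨z, hz⟩ : w ∈ Set.range (s (e (W.hom w) ⟨w, rfl⟩)) := by rw [hV]; rfl
      exact ⟨(Limits.Sigma.ι (fun _ : Fin n => Z₀) (e (W.hom w) ⟨w, rfl⟩)) z, by
        rw [← Scheme.Hom.comp_apply, Limits.Sigma.ι_desc]; exact hz⟩⟩
    exact (isIso_iff_isOpenImmersion_and_surjective _).2 ⟨inferInstance, inferInstance⟩
  exact ⟨MorphismProperty.Over.isoMk (asIso c) (Limits.Sigma.hom_ext _ _ fun i => by
    show Limits.Sigma.ι _ i ≫ c ≫ W.hom = Limits.Sigma.ι _ i ≫ Limits.Sigma.desc fun _ : Fin n => 𝟙 Z₀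
    rw [Limits.Sigma.ι_desc, Limits.Sigma.ι_desc_assoc, hs])⟩

end Groth.Agent.CurveFEtLib
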